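import Mathlib
import Groth.Agent.Lib.Helper9.GenFree.Main2
import Groth.Agent.Lib.Helper9.GenFree.Conv
import Groth.Agent.Lib.Helper7.ConsImg.Main

/-! helper7: ring-level lemmas for spreading properties of a finite type morphism from the generic
point of an irreducible base: opens and closed sets with empty generic fibre lie over a proper
closed subset; locally closed pieces meeting the generic fibre meet all fibres over a basic open. -/

set_option linter.style.haveILetI false
set_option linter.unusedVariables false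
set_option linter.unusedSectionVars false
set_option autoImplicit false

namespace Groth.Agent.Helper7.NearGen

universe u

open Groth.Agent.Helper9.GenFree

/-- The torsion of a finite type algebra over a domain is killed by powers of one nonzero
element. -/
theorem exists_torsion_bound {R C : Type u} [CommRing R] [IsDomain R] [CommRing C] [Algebra R C]
    [Algebra.FiniteType R C] :
    ∃ a₀ : R, a₀ ≠ 0 ∧ ∀ (c : C) (r : R), r ≠ 0 → r • c = 0 → ∃ m : ℕ, a₀ ^ m • c = 0 := by
  obtain ⟨a₀, ha₀, ι, b, hb⟩ := goodRing_of_finiteType' R C C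
  refine ⟨a₀, ha₀, fun c r hr hrc => ?_⟩
  obtain ⟨k, hk⟩ := hb.2 c
  obtain ⟨d, hd⟩ := (Finsupp.mem_span_range_iff_exists_finsupp).mp hk
  rw [← Finsupp.linearCombination_apply] at hd
  have h1 : Finsupp.linearCombination R b (r • d) = 0 := by
    rw [map_smul, hd, smul_comm, hrc, smul_zero]
  have h2 : r • d = 0 := hb.1 _ ⟨0, by rw [pow_zero, one_smul]; exact h1⟩
  have h3 : d = 0 := by
    ext i
    have h4 := DFunLike.congr_fun h2 i
    simp only [Finsupp.smul_apply, smul_eq_mul, Finsupp.zero_apply, mul_eq_zero] at h4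
    exact h4.resolve_left hr
  refine ⟨k, ?_⟩
  rw [← hd, h3, map_zero]

/-- Lemma E (ring form): basic opens of a finite type algebra missing the generic fibre lie over
a fixed proper closed subset. -/
theorem exists_forall_mem_of_generic_empty {A B : Type u} [CommRing A] [CommRing B] [Algebra A B]
    [Algebra.FiniteType A B] (p₀ : Ideal A) [p₀.IsPrime]
    (hmin : ∀ q : Ideal A, q.IsPrime → p₀ ≤ q) :
    ∃ a : A, a ∉ p₀ ∧ ∀ b : B,
      (∀ q : PrimeSpectrum B, q.asIdeal.comap (algebraMap A B) = p₀ → b ∈ q.asIdeal) →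
      ∀ u : PrimeSpectrum B, b ∉ u.asIdeal → algebraMap A B a ∈ u.asIdeal := by
  classical
  let R := A ⧸ p₀
  let I := p₀.map (algebraMap A B)
  let C := B ⧸ I
  haveI : Algebra.FiniteType R C := Algebra.FiniteType.of_restrictScalars_finiteType A _ _
  obtain ⟨a₀', ha₀', htor⟩ := exists_torsion_bound (R := R) (C := C)
  obtain ⟨a₀, rfl⟩ := Ideal.Quotient.mk_surjective a₀'
  refine ⟨a₀, fun h => ha₀' (Ideal.Quotient.eq_zero_iff_mem.mpr h), fun b hb u hbu => ?_⟩
  have hex : ∃ (n : ℕ) (a : A), a ∉ p₀ ∧ algebraMap A B a * b ^ n ∈ I := by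
    by_contra hcon
    push Not at hcon
    let S : Submonoid B :=
      { carrier := {s | ∃ (n : ℕ) (a : A), a ∉ p₀ ∧ s = algebraMap A B a * b ^ n}
        one_mem' := ⟨0, 1, fun h => (Ideal.IsPrime.ne_top inferInstance)
          ((Ideal.eq_top_iff_one p₀).mpr h), by simp⟩
        mul_mem' := by
          rintro _ _ ⟨n, a, ha, rfl⟩ ⟨n', a', ha', rfl⟩
          refine ⟨n + n', a * a', fun h => ?_, ?_⟩
          · rcases Ideal.IsPrime.mem_or_mem inferInstance h with h | h
            · exact ha h
            · exact ha' h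
          · rw [map_mul, pow_add]; ring }
    have hdis : Disjoint (I : Set B) (S : Set B) := by
      rw [Set.disjoint_left]
      rintro s hsI ⟨n, a, ha, rfl⟩
      exact hcon n a ha hsI
    obtain ⟨q, hq, hIq, hqS⟩ := Ideal.exists_le_prime_disjoint I S hdis
    have hqp : q.comap (algebraMap A B) = p₀ := by
      apply le_antisymm
      · intro t ht
        by_contra htp
        exact Set.disjoint_left.mp hqS ht ⟨0, t, htp, by simp⟩
      · exact Ideal.map_le_iff_le_comap.mp hIq
    have hbq := hb ⟨q, hq⟩ hqp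
    exact Set.disjoint_left.mp hqS hbq ⟨1, 1, fun h => (Ideal.IsPrime.ne_top inferInstance)
      ((Ideal.eq_top_iff_one p₀).mpr h), by simp⟩
  obtain ⟨n, a, ha, hab⟩ := hex
  have h1 : (Ideal.Quotient.mk p₀ a : R) • (Ideal.Quotient.mk I (b ^ n) : C) = 0 := by
    rw [Algebra.smul_def]
    change Ideal.Quotient.mk I (algebraMap A B a) * Ideal.Quotient.mk I (b ^ n) = 0
    rw [← map_mul, Ideal.Quotient.eq_zero_iff_mem]
    exact hab
  have ha0 : (Ideal.Quotient.mk p₀ a : R) ≠ 0 := fun h => ha (Ideal.Quotient.eq_zero_iff_mem.mp h)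
  obtain ⟨m, hm⟩ := htor _ _ ha0 h1
  have h2 : algebraMap A B a₀ ^ m * b ^ n ∈ I := by
    rw [← Ideal.Quotient.eq_zero_iff_mem, map_mul, map_pow]
    rw [Algebra.smul_def, map_pow] at hm
    exact hm
  have hIu : I ≤ u.asIdeal := Ideal.map_le_iff_le_comap.mpr (hmin _ inferInstance)
  have h3 := hIu h2
  rcases Ideal.IsPrime.mem_or_mem u.isPrime h3 with h4 | h4
  · exact Ideal.IsPrime.mem_of_pow_mem u.isPrime _ h4
  · exact absurd (Ideal.IsPrime.mem_of_pow_mem u.isPrime _ h4) hbu

/-- Lemma E' (ring form): a closed subset of the spectrum of an algebra missing the generic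
fibre lies over a proper closed subset. -/
theorem exists_forall_mem_of_generic_empty_closed {A B : Type u} [CommRing A] [CommRing B]
    [Algebra A B] (p₀ : Ideal A) [p₀.IsPrime]
    (hmin : ∀ q : Ideal A, q.IsPrime → p₀ ≤ q) (J : Ideal B)
    (hJ : ∀ q : PrimeSpectrum B, q.asIdeal.comap (algebraMap A B) = p₀ → ¬ J ≤ q.asIdeal) :
    ∃ a : A, a ∉ p₀ ∧ ∀ u : PrimeSpectrum B, J ≤ u.asIdeal → algebraMap A B a ∈ u.asIdeal := by
  classical
  let I := p₀.map (algebraMap A B)
  have hex : ∃ a : A, a ∉ p₀ ∧ algebraMap A B a ∈ J ⊔ I := by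
    by_contra hcon
    push Not at hcon
    let S : Submonoid B := p₀.primeCompl.map (algebraMap A B)
    have hdis : Disjoint ((J ⊔ I : Ideal B) : Set B) (S : Set B) := by
      rw [Set.disjoint_left]
      rintro s hs ⟨a, ha, rfl⟩
      exact hcon a ha hs
    obtain ⟨q, hq, hJq, hqS⟩ := Ideal.exists_le_prime_disjoint (J ⊔ I) S hdis
    have hqp : q.comap (algebraMap A B) = p₀ := by
      apply le_antisymm
      · intro t ht
        by_contra htp
        exact Set.disjoint_left.mp hqS ht ⟨t, htp, rfl⟩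
      · exact Ideal.map_le_iff_le_comap.mp (le_sup_right.trans hJq)
    exact hJ ⟨q, hq⟩ hqp (le_sup_left.trans hJq)
  obtain ⟨a, ha, haJ⟩ := hex
  refine ⟨a, ha, fun u hu => ?_⟩
  have hIu : I ≤ u.asIdeal := Ideal.map_le_iff_le_comap.mpr (hmin _ inferInstance)
  exact (sup_le hu hIu) haJ

theorem range_comap_quot_away {B : Type u} [CommRing B] (J : Ideal B) (b : B) :
    Set.range (PrimeSpectrum.comap
      (algebraMap B (Localization.Away (Ideal.Quotient.mk J b)))) =
      PrimeSpectrum.zeroLocus (J : Set B) \ PrimeSpectrum.zeroLocus {b} := by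
  let f := Ideal.Quotient.mk J b
  trans PrimeSpectrum.comap (Ideal.Quotient.mk J) ''
    (Set.range (PrimeSpectrum.comap (algebraMap _ (Localization.Away f))))
  · rw [← Set.range_comp]; rfl
  · rw [PrimeSpectrum.localization_away_comap_range _ f, ← PrimeSpectrum.comap_basicOpen,
      TopologicalSpace.Opens.coe_comap, ContinuousMap.coe_mk, Set.image_preimage_eq_inter_range,
      range_comap_of_surjective _ _ Ideal.Quotient.mk_surjective,
      Set.sdiff_eq_compl_inter, PrimeSpectrum.basicOpen_eq_zeroLocus_compl, Ideal.mk_ker]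

/-- Lemma N (ring form): a locally closed piece with a point over the generic point has points
over a nonempty basic open. -/
theorem exists_forall_exists_prime {A B : Type u} [CommRing A] [CommRing B] [Algebra A B]
    [Algebra.FiniteType A B] (p₀ : Ideal A) [p₀.IsPrime] (J : Ideal B) (b : B)
    (q₀ : PrimeSpectrum B) (hq₀ : q₀.asIdeal.comap (algebraMap A B) = p₀)
    (hJ : J ≤ q₀.asIdeal) (hb : b ∉ q₀.asIdeal) :
    ∃ a : A, a ∉ p₀ ∧ ∀ p : PrimeSpectrum A, p₀ ≤ p.asIdeal → a ∉ p.asIdeal →
      ∃ u : PrimeSpectrum B, u.asIdeal.comap (algebraMap A B) = p.asIdeal ∧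
        J ≤ u.asIdeal ∧ b ∉ u.asIdeal := by
  let T := Localization.Away (Ideal.Quotient.mk J b)
  haveI h1 : Algebra.FiniteType A (B ⧸ J) := inferInstance
  haveI h2 : Algebra.FiniteType (B ⧸ J) T :=
    haveI : Algebra.FinitePresentation (B ⧸ J) T :=
      IsLocalization.Away.finitePresentation (Ideal.Quotient.mk J b)
    Algebra.FiniteType.of_finitePresentation
  haveI : Algebra.FiniteType A T := Algebra.FiniteType.trans h1 h2
  have hq₀r : q₀ ∈ Set.range (PrimeSpectrum.comap (algebraMap B T)) := by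
    rw [range_comap_quot_away]
    refine ⟨hJ, fun h => hb ?_⟩
    exact h (Set.mem_singleton b)
  obtain ⟨P, hP⟩ := hq₀r
  have hp₀r : (⟨p₀, inferInstance⟩ : PrimeSpectrum A) ∈
      Set.range (PrimeSpectrum.comap (algebraMap A T)) := by
    refine ⟨P, ?_⟩
    rw [IsScalarTower.algebraMap_eq A B T, PrimeSpectrum.comap_comp_apply, hP]
    exact PrimeSpectrum.ext hq₀
  obtain ⟨a, ha, hrange⟩ := Groth.Agent.Helper7.ConsImg.exists_notMem_forall_mem_range
    (R := A) (T := T) ⟨p₀, inferInstance⟩ hp₀r
  refine ⟨a, ha, fun p hp hap => ?_⟩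
  obtain ⟨P', hP'⟩ := hrange p hp hap
  have hu : PrimeSpectrum.comap (algebraMap B T) P' ∈
      PrimeSpectrum.zeroLocus (J : Set B) \ PrimeSpectrum.zeroLocus {b} := by
    rw [← range_comap_quot_away]
    exact ⟨P', rfl⟩
  refine ⟨PrimeSpectrum.comap (algebraMap B T) P', ?_, hu.1, fun h => hu.2 ?_⟩
  · have h3 : PrimeSpectrum.comap (algebraMap A B) (PrimeSpectrum.comap (algebraMap B T) P') = p := by
      rw [← PrimeSpectrum.comap_comp_apply, ← IsScalarTower.algebraMap_eq A B T]
      exact hP'
    exact congrArg PrimeSpectrum.asIdeal h3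
  · intro x hx
    rw [Set.mem_singleton_iff] at hx
    subst hx
    exact h

end Groth.Agent.Helper7.NearGen
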