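import Mathlib
import Groth.Agent.Lib.Helper7.NearGen.Alg
import Groth.Agent.Lib.Helper7.CohStalk.PushforwardQC2

/-! helper7: for a finite type morphism to an irreducible scheme: open or closed subsets of the
source missing the generic fibre miss the fibres over a nonempty open; locally closed subsets
meeting the generic fibre meet the fibres over a nonempty open. -/

set_option linter.style.haveILetI false
set_option linter.unusedVariables false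
set_option linter.unusedSectionVars false
set_option autoImplicit false
set_option backward.isDefEq.respectTransparency.types false

open CategoryTheory CategoryTheory.Limits AlgebraicGeometry TopologicalSpace

namespace Groth.Agent.Helper7.NearGen

universe u

section Dict

variable {X Y : Scheme.{u}} (f : X ⟶ Y) {V : Y.Opens} (hV : IsAffineOpen V)
  {W : X.Opens} (hW : IsAffineOpen W) (e : W ≤ f ⁻¹ᵁ V)

theorem base_fromSpec (Q : Spec Γ(X, W)) :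
    f (hW.fromSpec Q) = hV.fromSpec (Spec.map (f.appLE V W e) Q) := by
  rw [← Scheme.Hom.comp_apply, ← Scheme.Hom.comp_apply, IsAffineOpen.SpecMap_appLE_fromSpec]

theorem fromSpec_mem_basicOpen_iff {Z : Scheme.{u}} {U : Z.Opens} (hU : IsAffineOpen U)
    (Q : Spec Γ(Z, U)) (b : Γ(Z, U)) :
    hU.fromSpec Q ∈ Z.basicOpen b ↔ b ∉ Q.asIdeal := by
  have h1 : hU.fromSpec Q ∈ Z.basicOpen b ↔ Q ∈ hU.fromSpec ⁻¹ᵁ Z.basicOpen b := Iff.rfl
  rw [h1, hU.fromSpec_preimage_basicOpen]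
  exact Iff.rfl

/-- The generic point of an irreducible scheme gives a prime contained in all primes. -/
theorem primeIdealOf_genericPoint_le [IrreducibleSpace Y] (hη : genericPoint Y ∈ V)
    (q : Ideal Γ(Y, V)) (hq : q.IsPrime) :
    (hV.primeIdealOf ⟨genericPoint Y, hη⟩).asIdeal ≤ q := by
  let Q : Spec Γ(Y, V) := ⟨q, hq⟩
  have h0 : hV.fromSpec (hV.primeIdealOf ⟨genericPoint Y, hη⟩) = genericPoint Y :=
    hV.fromSpec_primeIdealOf ⟨genericPoint Y, hη⟩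
  have h1 : hV.fromSpec (hV.primeIdealOf ⟨genericPoint Y, hη⟩) ⤳ hV.fromSpec Q := by
    rw [h0]
    exact genericPoint_specializes _
  have h2 : hV.primeIdealOf ⟨genericPoint Y, hη⟩ ⤳ Q :=
    (hV.fromSpec.isOpenEmbedding.isInducing.specializes_iff).mp h1
  exact (PrimeSpectrum.le_iff_specializes _ _).mpr h2

include hV hW e in
/-- Lemma E on one chart. -/
theorem exists_of_open_chart [IrreducibleSpace Y] [LocallyOfFiniteType f]
    (hη : genericPoint Y ∈ V) (U : X.Opens) (hU : ∀ x ∈ U, f x ≠ genericPoint Y) :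
    ∃ a : Γ(Y, V), genericPoint Y ∈ Y.basicOpen a ∧ ∀ x ∈ U ⊓ W, f x ∉ Y.basicOpen a := by
  letI algB : Algebra Γ(Y, V) Γ(X, W) := (f.appLE V W e).hom.toAlgebra
  haveI : Algebra.FiniteType Γ(Y, V) Γ(X, W) := LocallyOfFiniteType.finiteType_appLE f hV hW e
  let P₀ := hV.primeIdealOf ⟨genericPoint Y, hη⟩
  have hP₀ : hV.fromSpec P₀ = genericPoint Y := hV.fromSpec_primeIdealOf ⟨genericPoint Y, hη⟩
  obtain ⟨a, ha, hab⟩ := exists_forall_mem_of_generic_empty (A := Γ(Y, V)) (B := Γ(X, W))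
    P₀.asIdeal (primeIdealOf_genericPoint_le hV hη)
  refine ⟨a, ?_, ?_⟩
  · rw [← hP₀, fromSpec_mem_basicOpen_iff]
    exact ha
  · rintro x ⟨hxU, hxW⟩ hfx
    let Qx := hW.primeIdealOf ⟨x, hxW⟩
    have hQx : hW.fromSpec Qx = x := hW.fromSpec_primeIdealOf ⟨x, hxW⟩
    have hopen : IsOpen ((hW.fromSpec ⁻¹ᵁ U : (Spec Γ(X, W)).Opens) : Set (Spec Γ(X, W))) :=
      (hW.fromSpec ⁻¹ᵁ U).isOpen
    have hQxU : Qx ∈ ((hW.fromSpec ⁻¹ᵁ U : (Spec Γ(X, W)).Opens) : Set (Spec Γ(X, W))) := by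
      change hW.fromSpec Qx ∈ U
      rw [hQx]
      exact hxU
    obtain ⟨_, ⟨b, rfl⟩, hQb, hbU⟩ :=
      PrimeSpectrum.isTopologicalBasis_basic_opens.exists_subset_of_mem_open hQxU hopen
    have hb1 : ∀ q : PrimeSpectrum Γ(X, W),
        q.asIdeal.comap (algebraMap Γ(Y, V) Γ(X, W)) = P₀.asIdeal → b ∈ q.asIdeal := by
      intro q hq
      by_contra hbq
      have h1 : hW.fromSpec q ∈ U := hbU hbq
      have h2 : f (hW.fromSpec q) = genericPoint Y := by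
        rw [base_fromSpec f hV hW e, ← hP₀]
        congr 1
        exact PrimeSpectrum.ext hq
      exact hU _ h1 h2
    have h3 := hab b hb1 Qx hQb
    rw [← hQx, base_fromSpec f hV hW e, fromSpec_mem_basicOpen_iff] at hfx
    exact hfx h3

include hV hW e in
/-- Lemma E' on one chart. -/
theorem exists_of_closed_chart [IrreducibleSpace Y]
    (hη : genericPoint Y ∈ V) (T : Set X) (hT : IsClosed T)
    (hTη : ∀ x ∈ T, f x ≠ genericPoint Y) :
    ∃ a : Γ(Y, V), genericPoint Y ∈ Y.basicOpen a ∧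
      ∀ x ∈ T, x ∈ W → f x ∉ Y.basicOpen a := by
  letI algB : Algebra Γ(Y, V) Γ(X, W) := (f.appLE V W e).hom.toAlgebra
  let P₀ := hV.primeIdealOf ⟨genericPoint Y, hη⟩
  have hP₀ : hV.fromSpec P₀ = genericPoint Y := hV.fromSpec_primeIdealOf ⟨genericPoint Y, hη⟩
  have hcl : IsClosed (hW.fromSpec ⁻¹' T) := hT.preimage hW.fromSpec.continuous
  obtain ⟨J, hJ⟩ := (PrimeSpectrum.isClosed_iff_zeroLocus_ideal _).mp hcl
  have hJ' : ∀ q : PrimeSpectrum Γ(X, W),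
      q.asIdeal.comap (algebraMap Γ(Y, V) Γ(X, W)) = P₀.asIdeal → ¬ J ≤ q.asIdeal := by
    intro q hq hJq
    have h1 : q ∈ hW.fromSpec ⁻¹' T := by
      rw [hJ]
      exact hJq
    have h2 : f (hW.fromSpec q) = genericPoint Y := by
      rw [base_fromSpec f hV hW e, ← hP₀]
      congr 1
      exact PrimeSpectrum.ext hq
    exact hTη _ h1 h2
  obtain ⟨a, ha, haJ⟩ := exists_forall_mem_of_generic_empty_closed (A := Γ(Y, V))
    (B := Γ(X, W)) P₀.asIdeal (primeIdealOf_genericPoint_le hV hη) J hJ'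
  refine ⟨a, ?_, ?_⟩
  · rw [← hP₀, fromSpec_mem_basicOpen_iff]
    exact ha
  · intro x hxT hxW hfx
    let Qx := hW.primeIdealOf ⟨x, hxW⟩
    have hQx : hW.fromSpec Qx = x := hW.fromSpec_primeIdealOf ⟨x, hxW⟩
    have h1 : Qx ∈ hW.fromSpec ⁻¹' T := by
      change hW.fromSpec Qx ∈ T
      rw [hQx]
      exact hxT
    rw [hJ] at h1
    have h3 := haJ Qx h1
    rw [← hQx, base_fromSpec f hV hW e, fromSpec_mem_basicOpen_iff] at hfx
    exact hfx h3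

include hV hW e in
/-- Lemma N on one chart. -/
theorem exists_of_locallyClosed_chart [IrreducibleSpace Y] [LocallyOfFiniteType f]
    (hη : genericPoint Y ∈ V) (T : Set X) (hT : IsClosed T) (U : X.Opens)
    (x₀ : X) (hx₀W : x₀ ∈ W) (hx₀T : x₀ ∈ T) (hx₀U : x₀ ∈ U) (hfx₀ : f x₀ = genericPoint Y) :
    ∃ a : Γ(Y, V), genericPoint Y ∈ Y.basicOpen a ∧
      ∀ y ∈ Y.basicOpen a, ∃ x ∈ T, x ∈ U ∧ f x = y := by
  letI algB : Algebra Γ(Y, V) Γ(X, W) := (f.appLE V W e).hom.toAlgebra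
  haveI : Algebra.FiniteType Γ(Y, V) Γ(X, W) := LocallyOfFiniteType.finiteType_appLE f hV hW e
  let P₀ := hV.primeIdealOf ⟨genericPoint Y, hη⟩
  have hP₀ : hV.fromSpec P₀ = genericPoint Y := hV.fromSpec_primeIdealOf ⟨genericPoint Y, hη⟩
  have hcl : IsClosed (hW.fromSpec ⁻¹' T) := hT.preimage hW.fromSpec.continuous
  obtain ⟨J, hJ⟩ := (PrimeSpectrum.isClosed_iff_zeroLocus_ideal _).mp hcl
  let Q₀ := hW.primeIdealOf ⟨x₀, hx₀W⟩
  have hQ₀ : hW.fromSpec Q₀ = x₀ := hW.fromSpec_primeIdealOf ⟨x₀, hx₀W⟩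
  have hopen : IsOpen ((hW.fromSpec ⁻¹ᵁ U : (Spec Γ(X, W)).Opens) : Set (Spec Γ(X, W))) :=
    (hW.fromSpec ⁻¹ᵁ U).isOpen
  have hQ₀U : Q₀ ∈ ((hW.fromSpec ⁻¹ᵁ U : (Spec Γ(X, W)).Opens) : Set (Spec Γ(X, W))) := by
    change hW.fromSpec Q₀ ∈ U
    rw [hQ₀]
    exact hx₀U
  obtain ⟨_, ⟨b, rfl⟩, hQb, hbU⟩ :=
    PrimeSpectrum.isTopologicalBasis_basic_opens.exists_subset_of_mem_open hQ₀U hopen
  have hQ₀J : J ≤ Q₀.asIdeal := by
    have h1 : Q₀ ∈ hW.fromSpec ⁻¹' T := by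
      change hW.fromSpec Q₀ ∈ T
      rw [hQ₀]
      exact hx₀T
    rw [hJ] at h1
    exact h1
  have hQ₀P₀ : Q₀.asIdeal.comap (algebraMap Γ(Y, V) Γ(X, W)) = P₀.asIdeal := by
    have h1 : hV.fromSpec (Spec.map (f.appLE V W e) Q₀) = hV.fromSpec P₀ := by
      rw [← base_fromSpec f hV hW e, hQ₀, hfx₀, hP₀]
    have h2 := hV.fromSpec.isOpenEmbedding.injective h1
    exact congrArg PrimeSpectrum.asIdeal h2
  obtain ⟨a, ha, hap⟩ := exists_forall_exists_prime (A := Γ(Y, V)) (B := Γ(X, W)) P₀.asIdeal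
    J b Q₀ hQ₀P₀ hQ₀J hQb
  refine ⟨a, ?_, ?_⟩
  · rw [← hP₀, fromSpec_mem_basicOpen_iff]
    exact ha
  · intro y hy
    have hyV : y ∈ V := Y.basicOpen_le a hy
    let Py := hV.primeIdealOf ⟨y, hyV⟩
    have hPy : hV.fromSpec Py = y := hV.fromSpec_primeIdealOf ⟨y, hyV⟩
    have haPy : a ∉ Py.asIdeal := by
      rw [← fromSpec_mem_basicOpen_iff hV, hPy]
      exact hy
    obtain ⟨u, hu1, hu2, hu3⟩ := hap Py (primeIdealOf_genericPoint_le hV hη _ Py.isPrime) haPy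
    refine ⟨hW.fromSpec u, ?_, ?_, ?_⟩
    · have h1 : u ∈ hW.fromSpec ⁻¹' T := by
        rw [hJ]
        exact hu2
      exact h1
    · exact hbU hu3
    · rw [base_fromSpec f hV hW e, ← hPy]
      congr 1
      exact PrimeSpectrum.ext hu1

end Dict

theorem mem_basicOpen_prod {Y : Scheme.{u}} {V₀ : Y.Opens} {ι : Type*} [Fintype ι]
    (a : ι → Γ(Y, V₀)) (y : Y) (hy : y ∈ V₀) :
    y ∈ Y.basicOpen (∏ i, a i) ↔ ∀ i, y ∈ Y.basicOpen (a i) := by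
  rw [← Y.evaluation_ne_zero_iff_mem_basicOpen y hy]
  have h1 : (Y.evaluation V₀ y hy).hom (∏ i, a i) = ∏ i, (Y.evaluation V₀ y hy).hom (a i) :=
    map_prod _ _ _
  change (Y.evaluation V₀ y hy).hom (∏ i, a i) ≠ 0 ↔ _
  rw [h1, Finset.prod_ne_zero_iff]
  constructor
  · intro h i
    exact (Y.evaluation_ne_zero_iff_mem_basicOpen y hy (a i)).mp (h i (Finset.mem_univ i))
  · intro h i _
    exact (Y.evaluation_ne_zero_iff_mem_basicOpen y hy (a i)).mpr (h i)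

/-- Lemma E: an open subset of the source missing the generic fibre misses the fibres over a
nonempty open. -/
theorem exists_open_of_open {X Y : Scheme.{u}} (f : X ⟶ Y) [IrreducibleSpace Y]
    [LocallyOfFiniteType f] [QuasiCompact f] (U : X.Opens)
    (hU : ∀ x ∈ U, f x ≠ genericPoint Y) :
    ∃ V : Y.Opens, genericPoint Y ∈ V ∧ ∀ x ∈ U, f x ∉ V := by
  classical
  obtain ⟨V₀, hV₀, hηV₀⟩ : ∃ V : Y.Opens, IsAffineOpen V ∧ genericPoint Y ∈ V := by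
    obtain ⟨_, ⟨V, hV, rfl⟩, hy, -⟩ := (Y.isBasis_affineOpens).exists_subset_of_mem_open
      (Set.mem_univ (genericPoint Y)) isOpen_univ
    exact ⟨V, hV, hy⟩
  have hcomp : IsCompact ((f ⁻¹ᵁ V₀ : X.Opens) : Set X) :=
    QuasiCompact.isCompact_preimage (f := f) _ V₀.isOpen hV₀.isCompact
  obtain ⟨t, ht1, ht2⟩ :=
    Groth.Agent.Helper7.FinType.exists_finset_affine_cover (f ⁻¹ᵁ V₀) hcomp
  have hex : ∀ W : t, ∃ a : Γ(Y, V₀), genericPoint Y ∈ Y.basicOpen a ∧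
      ∀ x ∈ U ⊓ W.1, f x ∉ Y.basicOpen a := fun W =>
    exists_of_open_chart f hV₀ (ht1 W.1 W.2).1 (ht1 W.1 W.2).2 hηV₀ U hU
  choose a ha1 ha2 using hex
  refine ⟨Y.basicOpen (∏ W : t, a W), (mem_basicOpen_prod a _ hηV₀).mpr ha1, ?_⟩
  intro x hxU hfx
  have hfxV₀ : f x ∈ V₀ := Y.basicOpen_le _ hfx
  obtain ⟨W, hWt, hxW⟩ := ht2 x hfxV₀
  exact ha2 ⟨W, hWt⟩ x ⟨hxU, hxW⟩ ((mem_basicOpen_prod a _ hfxV₀).mp hfx ⟨W, hWt⟩)

/-- Lemma E': a closed subset of the source missing the generic fibre misses the fibres over a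
nonempty open. -/
theorem exists_open_of_closed {X Y : Scheme.{u}} (f : X ⟶ Y) [IrreducibleSpace Y]
    [QuasiCompact f] (T : Set X) (hT : IsClosed T)
    (hTη : ∀ x ∈ T, f x ≠ genericPoint Y) :
    ∃ V : Y.Opens, genericPoint Y ∈ V ∧ ∀ x ∈ T, f x ∉ V := by
  classical
  obtain ⟨V₀, hV₀, hηV₀⟩ : ∃ V : Y.Opens, IsAffineOpen V ∧ genericPoint Y ∈ V := by
    obtain ⟨_, ⟨V, hV, rfl⟩, hy, -⟩ := (Y.isBasis_affineOpens).exists_subset_of_mem_open
      (Set.mem_univ (genericPoint Y)) isOpen_univ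
    exact ⟨V, hV, hy⟩
  have hcomp : IsCompact ((f ⁻¹ᵁ V₀ : X.Opens) : Set X) :=
    QuasiCompact.isCompact_preimage (f := f) _ V₀.isOpen hV₀.isCompact
  obtain ⟨t, ht1, ht2⟩ :=
    Groth.Agent.Helper7.FinType.exists_finset_affine_cover (f ⁻¹ᵁ V₀) hcomp
  have hex : ∀ W : t, ∃ a : Γ(Y, V₀), genericPoint Y ∈ Y.basicOpen a ∧
      ∀ x ∈ T, x ∈ W.1 → f x ∉ Y.basicOpen a := fun W =>
    exists_of_closed_chart f hV₀ (ht1 W.1 W.2).1 (ht1 W.1 W.2).2 hηV₀ T hT hTη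
  choose a ha1 ha2 using hex
  refine ⟨Y.basicOpen (∏ W : t, a W), (mem_basicOpen_prod a _ hηV₀).mpr ha1, ?_⟩
  intro x hxT hfx
  have hfxV₀ : f x ∈ V₀ := Y.basicOpen_le _ hfx
  obtain ⟨W, hWt, hxW⟩ := ht2 x hfxV₀
  exact ha2 ⟨W, hWt⟩ x hxT hxW ((mem_basicOpen_prod a _ hfxV₀).mp hfx ⟨W, hWt⟩)

/-- Lemma N: a locally closed subset of the source meeting the generic fibre meets all fibres
over a nonempty open. -/
theorem exists_open_of_locallyClosed {X Y : Scheme.{u}} (f : X ⟶ Y) [IrreducibleSpace Y]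
    [LocallyOfFiniteType f] (T : Set X) (hT : IsClosed T) (U : X.Opens)
    (x₀ : X) (hx₀T : x₀ ∈ T) (hx₀U : x₀ ∈ U) (hfx₀ : f x₀ = genericPoint Y) :
    ∃ V : Y.Opens, genericPoint Y ∈ V ∧ ∀ y ∈ V, ∃ x ∈ T, x ∈ U ∧ f x = y := by
  obtain ⟨V₀, hV₀, hηV₀⟩ : ∃ V : Y.Opens, IsAffineOpen V ∧ genericPoint Y ∈ V := by
    obtain ⟨_, ⟨V, hV, rfl⟩, hy, -⟩ := (Y.isBasis_affineOpens).exists_subset_of_mem_open
      (Set.mem_univ (genericPoint Y)) isOpen_univ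
    exact ⟨V, hV, hy⟩
  have hx₀V : x₀ ∈ f ⁻¹ᵁ V₀ := by
    change f x₀ ∈ V₀
    rw [hfx₀]
    exact hηV₀
  obtain ⟨_, ⟨W, hW, rfl⟩, hx₀W, hWV⟩ := (X.isBasis_affineOpens).exists_subset_of_mem_open
    hx₀V (f ⁻¹ᵁ V₀).isOpen
  have e : W ≤ f ⁻¹ᵁ V₀ := hWV
  obtain ⟨a, ha1, ha2⟩ := exists_of_locallyClosed_chart f hV₀ hW e hηV₀ T hT U x₀ hx₀W hx₀T
    hx₀U hfx₀
  exact ⟨Y.basicOpen a, ha1, ha2⟩

end Groth.Agent.Helper7.NearGen
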