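import Mathlib

/-! helper7: lower bounds for the number of irreducible / connected components of a space from a
finite closed cover with witness points. -/

set_option linter.style.haveILetI false
set_option linter.unusedVariables false
set_option linter.unusedSectionVars false
set_option autoImplicit false

open TopologicalSpace

namespace Groth.Agent.Helper7.NearGen

/-- A finite closed cover with witnesses lying in exactly one member bounds the number of
irreducible components from below. -/
theorem card_le_encard_irreducibleComponents {F : Type*} [TopologicalSpace F] {ι : Type*}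
    [Finite ι] (S : ι → Set F) (hS : ∀ c, IsClosed (S c)) (hcov : ⋃ c, S c = Set.univ)
    (w : ι → F) (hw : ∀ c c', w c ∈ S c' ↔ c' = c) :
    ENat.card ι ≤ (irreducibleComponents F).encard := by
  classical
  cases nonempty_fintype ι
  have hsub : ∀ c, irreducibleComponent (w c) ⊆ S c := by
    intro c
    have hirr : IsIrreducible (irreducibleComponent (w c)) := isIrreducible_irreducibleComponent
    obtain ⟨z, hz, hzs⟩ := (isIrreducible_iff_sUnion_isClosed.mp hirr)
      (Finset.univ.image S)
      (by
        intro z hz
        obtain ⟨c', -, rfl⟩ := Finset.mem_image.mp hz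
        exact hS c')
      (by
        intro x _
        have hx : x ∈ ⋃ c, S c := by rw [hcov]; exact Set.mem_univ x
        obtain ⟨c', hc'⟩ := Set.mem_iUnion.mp hx
        exact Set.mem_sUnion.mpr ⟨S c', by simp, hc'⟩)
    obtain ⟨c', -, rfl⟩ := Finset.mem_image.mp hz
    have h1 : w c ∈ S c' := hzs mem_irreducibleComponent
    rw [(hw c c').mp h1] at hzs
    exact hzs
  let g : ι → ↥(irreducibleComponents F) := fun c =>
    ⟨irreducibleComponent (w c), irreducibleComponent_mem_irreducibleComponents _⟩
  have hg : Function.Injective g := by
    intro c c' hcc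
    have h1 : irreducibleComponent (w c) = irreducibleComponent (w c') :=
      congrArg Subtype.val hcc
    have h2 : w c' ∈ S c := hsub c (h1 ▸ mem_irreducibleComponent)
    exact (hw c' c).mp h2
  rw [← ENat.card_coe_set_eq]
  exact ENat.card_le_card_of_injective hg

/-- A finite disjoint closed cover by nonempty sets bounds the number of connected components
from below. -/
theorem card_le_card_connectedComponents {F : Type*} [TopologicalSpace F] {ι : Type*}
    [Finite ι] (S : ι → Set F) (hS : ∀ c, IsClosed (S c)) (hcov : ⋃ c, S c = Set.univ)
    (hdisj : ∀ c c', c ≠ c' → Disjoint (S c) (S c'))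
    (w : ι → F) (hw : ∀ c, w c ∈ S c) :
    ENat.card ι ≤ ENat.card (ConnectedComponents F) := by
  classical
  have hopen : ∀ c, IsOpen (S c) := by
    intro c
    have h1 : S c = (⋃ c' : {c' : ι // c' ≠ c}, S c'.1)ᶜ := by
      ext x
      simp only [Set.mem_compl_iff, Set.mem_iUnion, not_exists]
      constructor
      · intro hx c' hx'
        exact (Set.disjoint_left.mp (hdisj c c'.1 (Ne.symm c'.2))) hx hx'
      · intro hx
        have hx' : x ∈ ⋃ c, S c := by rw [hcov]; exact Set.mem_univ x
        obtain ⟨c', hc'⟩ := Set.mem_iUnion.mp hx'
        by_cases hcc : c' = c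
        · exact hcc ▸ hc'
        · exact absurd hc' (hx ⟨c', hcc⟩)
    rw [h1]
    exact (isClosed_iUnion_of_finite fun c' : {c' : ι // c' ≠ c} => hS c'.1).isOpen_compl
  have hsub : ∀ c, connectedComponent (w c) ⊆ S c := fun c =>
    IsClopen.connectedComponent_subset ⟨hS c, hopen c⟩ (hw c)
  let g : ι → ConnectedComponents F := fun c => (w c : ConnectedComponents F)
  have hg : Function.Injective g := by
    intro c c' hcc
    have h1 : connectedComponent (w c) = connectedComponent (w c') :=
      ConnectedComponents.coe_eq_coe.mp hcc
    have h2 : w c' ∈ S c := hsub c (h1 ▸ mem_connectedComponent)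
    by_contra hne
    exact (Set.disjoint_left.mp (hdisj c c' hne)) h2 (hw c')
  exact ENat.card_le_card_of_injective hg

end Groth.Agent.Helper7.NearGen
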