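import Mathlib
import Groth.Agent.Lib.Helper7.NearGen.Main
import Groth.Agent.Lib.Helper7.NearGen.Top

/-! helper7: fibres near the generic point: finite covers of the generic fibre spread out, and the
number of irreducible / connected components of nearby fibres is at least that of the generic fibre. -/

set_option linter.style.haveILetI false
set_option linter.unusedVariables false
set_option linter.unusedSectionVars false
set_option autoImplicit false
set_option backward.isDefEq.respectTransparency.types false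

open CategoryTheory CategoryTheory.Limits AlgebraicGeometry TopologicalSpace

namespace Groth.Agent.Helper7.NearGen

universe u

theorem base_fiberι {X Y : Scheme.{u}} (f : X ⟶ Y) (y : Y) (z : f.fiber y) :
    f (f.fiberι y z) = y := by
  have h : f.fiberι y z ∈ Set.range (f.fiberι y) := ⟨z, rfl⟩
  rw [f.range_fiberι y] at h
  exact h

theorem exists_fiberι_eq {X Y : Scheme.{u}} (f : X ⟶ Y) (y : Y) (x : X) (hx : f x = y) :
    ∃ z : f.fiber y, f.fiberι y z = x := by
  have h : x ∈ Set.range (f.fiberι y) := by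
    rw [f.range_fiberι y]
    exact hx
  exact h

/-- Finitely many subsets covering the generic fibre: the closures of their images cover the
fibres over a nonempty open. -/
theorem fibres_covered {X Y : Scheme.{u}} (f : X ⟶ Y) [IrreducibleSpace Y]
    [LocallyOfFiniteType f] [QuasiCompact f]
    {ι : Type*} [Finite ι] (Z : ι → Set (f.fiber (genericPoint Y)))
    (hcov : ⋃ i, Z i = Set.univ) :
    ∃ V : Y.Opens, genericPoint Y ∈ V ∧ ∀ y ∈ V,
      ⋃ i, (f.fiberι y) ⁻¹' closure ((f.fiberι (genericPoint Y)) '' Z i) = Set.univ := by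
  have hTc : IsClosed (⋃ i, closure ((f.fiberι (genericPoint Y)) '' Z i)) :=
    isClosed_iUnion_of_finite fun i => isClosed_closure
  let U : X.Opens := ⟨(⋃ i, closure ((f.fiberι (genericPoint Y)) '' Z i))ᶜ, hTc.isOpen_compl⟩
  have hU : ∀ x ∈ U, f x ≠ genericPoint Y := by
    intro x hxU hfx
    obtain ⟨z, rfl⟩ := exists_fiberι_eq f _ x hfx
    have hz : z ∈ ⋃ i, Z i := by rw [hcov]; exact Set.mem_univ z
    obtain ⟨i, hi⟩ := Set.mem_iUnion.mp hz
    exact hxU (Set.mem_iUnion.mpr ⟨i, subset_closure ⟨z, hi, rfl⟩⟩)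
  obtain ⟨V, hηV, hV⟩ := exists_open_of_open f U hU
  refine ⟨V, hηV, fun y hy => ?_⟩
  rw [Set.eq_univ_iff_forall]
  intro z
  by_contra hz
  have hxU : f.fiberι y z ∈ U := by
    intro hx
    obtain ⟨i, hi⟩ := Set.mem_iUnion.mp hx
    exact hz (Set.mem_iUnion.mpr ⟨i, hi⟩)
  have := hV _ hxU
  rw [base_fiberι] at this
  exact this hy

/-- The number of irreducible components of the fibres is at least that of the generic fibre,
over a nonempty open. -/
theorem irreducibleComponents_fibre_le {X Y : Scheme.{u}} (f : X ⟶ Y) [IrreducibleSpace Y]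
    [LocallyOfFiniteType f] [QuasiCompact f] (n : ℕ)
    (h : (irreducibleComponents (f.fiber (genericPoint Y))).encard = n) :
    ∃ V : Y.Opens, genericPoint Y ∈ V ∧ ∀ y ∈ V,
      (n : ℕ∞) ≤ (irreducibleComponents (f.fiber y)).encard := by
  classical
  have hfin : (irreducibleComponents (f.fiber (genericPoint Y))).Finite :=
    Set.finite_of_encard_eq_coe h
  haveI : Finite ↥(irreducibleComponents (f.fiber (genericPoint Y))) := hfin.to_subtype
  let Z : ↥(irreducibleComponents (f.fiber (genericPoint Y))) →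
    Set (f.fiber (genericPoint Y)) := fun c => c.1
  have hcov : ⋃ c, Z c = Set.univ := by
    rw [← sUnion_irreducibleComponents, Set.sUnion_eq_iUnion]
  let T : ↥(irreducibleComponents (f.fiber (genericPoint Y))) → Set X :=
    fun c => closure (f.fiberι (genericPoint Y) '' Z c)
  have hclosed : ∀ c : ↥(irreducibleComponents (f.fiber (genericPoint Y))), IsClosed c.1 :=
    fun c => isClosed_of_mem_irreducibleComponents c.1 c.2
  have hgen : ∀ c : ↥(irreducibleComponents (f.fiber (genericPoint Y))),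
      ∃ ξ : f.fiber (genericPoint Y), IsGenericPoint ξ c.1 := fun c =>
    QuasiSober.sober c.2.prop (hclosed c)
  choose ξ hξ using hgen
  have hx : ∀ c c', f.fiberι (genericPoint Y) (ξ c) ∈ T c' ↔ c' = c := by
    intro c c'
    constructor
    · intro hmem
      have h1 : ξ c ∈ closure (Z c') := by
        rw [(f.fiberι (genericPoint Y)).isEmbedding.isInducing.closure_eq_preimage_closure_image]
        exact hmem
      rw [(hclosed c').closure_eq] at h1
      have h2 : c.1 ⊆ c'.1 := by
        rw [← (hξ c).def]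
        exact (hclosed c').closure_subset_iff.mpr (Set.singleton_subset_iff.mpr h1)
      have h3 : c'.1 ⊆ c.1 := c.2.le_of_ge c'.2.prop h2
      exact Subtype.ext (Set.Subset.antisymm h3 h2)
    · rintro rfl
      exact subset_closure ⟨ξ c', (hξ c').mem, rfl⟩
  have hTcl : ∀ c, IsClosed (⋃ c' : {c' // c' ≠ c}, T c'.1) := fun c =>
    isClosed_iUnion_of_finite fun c' : {c' // c' ≠ c} => isClosed_closure
  let U : ↥(irreducibleComponents (f.fiber (genericPoint Y))) → X.Opens := fun c =>
    ⟨(⋃ c' : {c' // c' ≠ c}, T c'.1)ᶜ, (hTcl c).isOpen_compl⟩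
  have hxU : ∀ c, f.fiberι (genericPoint Y) (ξ c) ∈ U c := by
    intro c hmem
    obtain ⟨c', hc'⟩ := Set.mem_iUnion.mp hmem
    exact c'.2 ((hx c c'.1).mp hc')
  have hV : ∀ c, ∃ V : Y.Opens, genericPoint Y ∈ V ∧
      ∀ y ∈ V, ∃ x ∈ T c, x ∈ U c ∧ f x = y := fun c =>
    exists_open_of_locallyClosed f (T c) isClosed_closure (U c) _ ((hx c c).mpr rfl) (hxU c)
      (base_fiberι f _ _)
  choose V hVη hVy using hV
  obtain ⟨V₁, hV₁η, hV₁⟩ := fibres_covered f Z hcov
  refine ⟨⟨(V₁ : Set Y) ∩ ⋂ c, (V c : Set Y),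
    V₁.isOpen.inter (isOpen_iInter_of_finite fun c => (V c).isOpen)⟩,
    ⟨hV₁η, Set.mem_iInter.mpr hVη⟩, ?_⟩
  intro y hy
  have hy1 : y ∈ V₁ := hy.1
  have hyc : ∀ c, y ∈ V c := fun c => Set.mem_iInter.mp hy.2 c
  have hw : ∀ c, ∃ w : f.fiber y, f.fiberι y w ∈ T c ∧ f.fiberι y w ∈ U c := by
    intro c
    obtain ⟨x, hxT, hxU, hfx⟩ := hVy c y (hyc c)
    obtain ⟨w, rfl⟩ := exists_fiberι_eq f y x hfx
    exact ⟨w, hxT, hxU⟩
  choose w hwT hwU using hw
  have key := card_le_encard_irreducibleComponents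
    (fun c => (f.fiberι y) ⁻¹' T c)
    (fun c => isClosed_closure.preimage (f.fiberι y).continuous)
    (hV₁ y hy1) w
    (by
      intro c c'
      constructor
      · intro hmem
        by_contra hne
        exact hwU c (Set.mem_iUnion.mpr ⟨⟨c', hne⟩, hmem⟩)
      · rintro rfl
        exact hwT c')
  rw [ENat.card_coe_set_eq, h] at key
  exact key

/-- The number of connected components of the fibres is at least that of the generic fibre,
over a nonempty open. -/
theorem connectedComponents_fibre_le {X Y : Scheme.{u}} (f : X ⟶ Y) [IrreducibleSpace Y]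
    [LocallyOfFiniteType f] [QuasiCompact f] (n : ℕ)
    (h : ENat.card (_root_.ConnectedComponents (f.fiber (genericPoint Y))) = n) :
    ∃ V : Y.Opens, genericPoint Y ∈ V ∧ ∀ y ∈ V,
      (n : ℕ∞) ≤ ENat.card (_root_.ConnectedComponents (f.fiber y)) := by
  classical
  haveI : Finite (_root_.ConnectedComponents (f.fiber (genericPoint Y))) :=
    ENat.card_lt_top.mp (h ▸ ENat.natCast_lt_top n)
  let Z : _root_.ConnectedComponents (f.fiber (genericPoint Y)) → Set (f.fiber (genericPoint Y)) :=
    fun c => _root_.ConnectedComponents.mk ⁻¹' {c}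
  have hcov : ⋃ c, Z c = Set.univ := by
    rw [Set.eq_univ_iff_forall]
    intro z
    exact Set.mem_iUnion.mpr ⟨_root_.ConnectedComponents.mk z, rfl⟩
  have hZcl : ∀ c, IsClosed (Z c) := by
    intro c
    obtain ⟨z, rfl⟩ := _root_.ConnectedComponents.surjective_coe c
    change IsClosed (_root_.ConnectedComponents.mk ⁻¹' {_root_.ConnectedComponents.mk z})
    rw [connectedComponents_preimage_singleton]
    exact isClosed_connectedComponent
  have hpt : ∀ c : _root_.ConnectedComponents (f.fiber (genericPoint Y)),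
      ∃ z : f.fiber (genericPoint Y), z ∈ Z c := fun c => by
    obtain ⟨z, rfl⟩ := _root_.ConnectedComponents.surjective_coe c
    exact ⟨z, rfl⟩
  choose z₀ hz₀ using hpt
  let T : _root_.ConnectedComponents (f.fiber (genericPoint Y)) → Set X :=
    fun c => closure (f.fiberι (genericPoint Y) '' Z c)
  have hTZ : ∀ c (z : f.fiber (genericPoint Y)), f.fiberι (genericPoint Y) z ∈ T c → z ∈ Z c := by
    intro c z hmem
    have h1 : z ∈ closure (Z c) := by
      rw [(f.fiberι (genericPoint Y)).isEmbedding.isInducing.closure_eq_preimage_closure_image]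
      exact hmem
    rw [(hZcl c).closure_eq] at h1
    exact h1
  have hpair : ∀ p : {p : _root_.ConnectedComponents (f.fiber (genericPoint Y)) ×
      _root_.ConnectedComponents (f.fiber (genericPoint Y)) // p.1 ≠ p.2},
      ∃ V : Y.Opens, genericPoint Y ∈ V ∧ ∀ x ∈ T p.1.1 ∩ T p.1.2, f x ∉ V := by
    intro p
    refine exists_open_of_closed f (T p.1.1 ∩ T p.1.2) (isClosed_closure.inter isClosed_closure) ?_
    intro x hx hfx
    obtain ⟨z, rfl⟩ := exists_fiberι_eq f _ x hfx
    have h1 : _root_.ConnectedComponents.mk z = p.1.1 := hTZ _ z hx.1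
    have h2 : _root_.ConnectedComponents.mk z = p.1.2 := hTZ _ z hx.2
    exact p.2 (h1.symm.trans h2)
  choose Vp hVpη hVp using hpair
  have hV : ∀ c, ∃ V : Y.Opens, genericPoint Y ∈ V ∧
      ∀ y ∈ V, ∃ x ∈ T c, x ∈ (⊤ : X.Opens) ∧ f x = y := fun c =>
    exists_open_of_locallyClosed f (T c) isClosed_closure ⊤ (f.fiberι (genericPoint Y) (z₀ c))
      (subset_closure ⟨z₀ c, hz₀ c, rfl⟩) trivial (base_fiberι f _ _)
  choose V hVη hVy using hV
  obtain ⟨V₁, hV₁η, hV₁⟩ := fibres_covered f Z hcov
  refine ⟨⟨((V₁ : Set Y) ∩ ⋂ c, (V c : Set Y)) ∩ ⋂ p, (Vp p : Set Y),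
    (V₁.isOpen.inter (isOpen_iInter_of_finite fun c => (V c).isOpen)).inter
      (isOpen_iInter_of_finite fun p => (Vp p).isOpen)⟩,
    ⟨⟨hV₁η, Set.mem_iInter.mpr hVη⟩, Set.mem_iInter.mpr hVpη⟩, ?_⟩
  intro y hy
  have hy1 : y ∈ V₁ := hy.1.1
  have hyc : ∀ c, y ∈ V c := fun c => Set.mem_iInter.mp hy.1.2 c
  have hyp : ∀ p, y ∈ Vp p := fun p => Set.mem_iInter.mp hy.2 p
  have hw : ∀ c, ∃ w : f.fiber y, f.fiberι y w ∈ T c := by
    intro c
    obtain ⟨x, hxT, -, hfx⟩ := hVy c y (hyc c)
    obtain ⟨w, rfl⟩ := exists_fiberι_eq f y x hfx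
    exact ⟨w, hxT⟩
  choose w hwT using hw
  have key := card_le_card_connectedComponents
    (fun c => (f.fiberι y) ⁻¹' T c)
    (fun c => isClosed_closure.preimage (f.fiberι y).continuous)
    (hV₁ y hy1)
    (by
      intro c c' hne
      rw [Set.disjoint_left]
      intro v hv1 hv2
      have := hVp ⟨(c, c'), hne⟩ (f.fiberι y v) ⟨hv1, hv2⟩
      rw [base_fiberι] at this
      exact this (hyp _))
    w hwT
  rw [h] at key
  exact key

end Groth.Agent.Helper7.NearGen
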